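import Mathlib
import Cfsg.Agent.Lib.StGen.SpPair
import Cfsg.Agent.Lib.PresOm.RealOm
import Cfsg.Agent.Lib.Classical.Orth.Classes

/-!
The group `Ω⁺`: forms and entries.
-/

set_option autoImplicit false
set_option linter.unusedSectionVars false
set_option linter.unusedSimpArgs false

namespace Cfsg.Agent.Lib.StGen.OmBase

open Matrix Cfsg Cfsg.Agent.Lib.PSL2.Basic Sum
open Cfsg.Agent.Lib.StGen.Mono Cfsg.Agent.Lib.StGen.Builder Cfsg.Agent.Lib.StGen.Chain
open Cfsg.Agent.Lib.StGen.SpPair (Idx ordS ordS_inl ordS_inr ordS_inj ordS_swap ordS_le hi rho_x_apply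
  rho_y_apply rho_w_mon rho_winv_mon rho_diag_mon swap_lt short_inv)
open Cfsg.Agent.Lib.ChevIso Cfsg.Agent.Lib.ChevIso.OmegaPlus Cfsg.Agent.Lib.PresOm.RealOm Cfsg.Agent.Lib.Steinberg.LinearStem
open scoped MatrixGroups

variable {n : ℕ} {F : Type*} [Field F]

/-- The isometry group. -/
abbrev OO (n : ℕ) (F : Type*) [Field F] := Cfsg.isometryGroup F (Cfsg.quadFormPlus (n + 2) F)

/-- The group. -/
abbrev GG (n : ℕ) (F : Type*) [Field F] := ↥(Cfsg.Omega F (Cfsg.quadFormPlus (n + 2) F))

/-- The matrix of an element. -/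
def rh : GG n F →* Matrix (Idx (n + 1)) (Idx (n + 1)) F :=
  (Units.coeHom _).comp ((OO n F).subtype.comp (Cfsg.Omega F (Cfsg.quadFormPlus (n + 2) F)).subtype)

theorem rh_apply (g : GG n F) : rh g = ((g.1.1 : GL (Idx (n + 1)) F) : Matrix (Idx (n + 1)) (Idx (n + 1)) F) := rfl

theorem rh_inj : Function.Injective (rh : GG n F →* Matrix (Idx (n + 1)) (Idx (n + 1)) F) := by
  intro a b h
  exact Subtype.ext (Subtype.ext (Units.ext h))

/-! ### Columns -/

theorem col_eq (g : GG n F) (c : Idx (n + 1)) :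
    ((g.1.1 : GL (Idx (n + 1)) F) : Matrix (Idx (n + 1)) (Idx (n + 1)) F) *ᵥ OmegaPlus.e c = fun k => rh g k c := by
  funext k
  exact mv_e _ _ _

theorem polar_col (g : GG n F) (r c : Idx (n + 1)) :
    polarF (fun k => rh g k r) (fun k => rh g k c) = (OmegaPlus.e r : Idx (n + 1) → F) c.swap := by
  have h1 := polar_of_mem_O g.1.2 (OmegaPlus.e r : Idx (n + 1) → F) (OmegaPlus.e c)
  rw [col_eq, col_eq, polarF_e] at h1
  exact h1

theorem Q_col (g : GG n F) (c : Idx (n + 1)) :
    ∑ i : Fin (n + 2), rh g (inl i) c * rh g (inr i) c = 0 := by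
  have h1 := mem_O.1 g.1.2 (OmegaPlus.e c : Idx (n + 1) → F)
  rw [col_eq, Q_e] at h1
  exact h1

theorem polar_col' (g : GG n F) (r c : Idx (n + 1)) :
    ∑ i : Fin (n + 2), (rh g (inl i) r * rh g (inr i) c + rh g (inr i) r * rh g (inl i) c) =
      (OmegaPlus.e r : Idx (n + 1) → F) c.swap := polar_col g r c

/-! ### Monomial elements -/

theorem mon_col {g : GG n F} {π : Equiv.Perm (Idx (n + 1))} (hg : IsMon rh g π) (c : Idx (n + 1)) :
    (fun k => rh g k c) = rh g (π c) c • (OmegaPlus.e (π c) : Idx (n + 1) → F) := by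
  funext k
  rw [Pi.smul_apply, smul_eq_mul, e_apply]
  by_cases h : k = π c
  · subst h
    simp
  · rw [if_neg h, mul_zero]
    by_contra h1
    exact h ((hg k c).1 h1)

theorem mon_polar {g : GG n F} {π : Equiv.Perm (Idx (n + 1))} (hg : IsMon rh g π) (r c : Idx (n + 1)) :
    rh g (π c) c * rh g (π c).swap r = if c.swap = r then 1 else 0 := by
  have h1 := polar_col g r c
  rw [mon_col hg c, polarF_smul, polarF_e, e_apply] at h1
  exact h1

/-- Monomial elements commute with the pairing of the positions. -/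
theorem mon_swap {g : GG n F} {π : Equiv.Perm (Idx (n + 1))} (hg : IsMon rh g π) (c : Idx (n + 1)) :
    π c.swap = (π c).swap := by
  have h1 := mon_polar hg c.swap c
  rw [if_pos rfl] at h1
  have h2 := right_ne_zero_of_mul_eq_one h1
  exact ((hg _ _).1 h2).symm

/-- The diagonal entries. -/
theorem diag_inv {h : GG n F} (hh : IsMon rh h 1) (c : Idx (n + 1)) :
    rh h c.swap c.swap = (rh h c c)⁻¹ := by
  have h1 := mon_polar hh c.swap c
  rw [if_pos rfl] at h1
  exact eq_inv_of_mul_eq_one_right h1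

theorem diag_conj {h : GG n F} (hh : IsMon rh h 1) (u : GG n F) (r c : Idx (n + 1)) :
    rh (h * u * h⁻¹) r c = rh h r r * rh u r c * (rh h c c)⁻¹ := by
  have h1 := hh.conj_apply' (u := u) r c
  simp only [inv_one, Equiv.Perm.one_apply] at h1
  have h2 := hh.diag_mul c c
  simp only [inv_one, Equiv.Perm.one_apply, if_true] at h2
  have h3 : rh h⁻¹ c c = (rh h c c)⁻¹ := eq_inv_of_mul_eq_one_right h2
  rw [h3] at h1
  exact h1

/-! ### Unitriangular elements -/

section UT

variable {u : GG n F} (hu : IsUT rh ordS u)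

include hu

/-- The entries of unitriangular elements in mirrored positions. -/
theorem form_UT {A B : Fin (n + 2)} (hAB : (B : ℕ) = A + 1) :
    rh u (inr B) (inr A) = -rh u (inl A) (inl B) := by
  have hne : A ≠ B := by
    rintro rfl
    omega
  have h1 := polar_col' u (inl B) (inr A)
  have h0 : (OmegaPlus.e (inl B) : Idx (n + 1) → F) (inr A).swap = 0 := by
    rw [e_apply]
    simp [hne]
  rw [h0] at h1
  have hB := B.2
  have h2 : ∀ k, rh u (inr k) (inl B) = 0 := fun k => by
    have hk := k.2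
    exact hu.1 _ _ (by simp only [ordS_inl, ordS_inr]; omega)
  simp only [h2, zero_mul, add_zero] at h1
  rw [Finset.sum_eq_add_of_mem A B (Finset.mem_univ _) (Finset.mem_univ _) hne] at h1
  · have h3 : rh u (inl B) (inl B) = 1 := hu.2 _
    have h4 : rh u (inr A) (inr A) = 1 := hu.2 _
    rw [h3, h4, mul_one, one_mul] at h1
    exact eq_neg_of_add_eq_zero_right h1
  · rintro k _ ⟨hk1, hk2⟩
    have hA := A.2
    have hk := k.2
    by_cases h3 : (k : ℕ) < A
    · rw [show rh u (inr k) (inr A) = 0 from hu.1 _ _ (by simp only [ordS_inr]; omega), mul_zero]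
    · have h4 : (B : ℕ) < k := by
        have h5 : (k : ℕ) ≠ A := fun h => hk1 (Fin.ext h)
        have h6 : (k : ℕ) ≠ B := fun h => hk2 (Fin.ext h)
        omega
      rw [show rh u (inl k) (inl B) = 0 from hu.1 _ _ (by simpa using h4), zero_mul]

/-- The last coordinate. -/
theorem van_o : rh u (inl (Fin.last (n + 1))) (inr (Fin.last (n + 1))) = 0 := by
  have h1 := Q_col u (inr (Fin.last (n + 1)))
  rw [Finset.sum_eq_single (Fin.last (n + 1))] at h1
  · have h3 : rh u (inr (Fin.last (n + 1))) (inr (Fin.last (n + 1))) = 1 := hu.2 _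
    rw [h3, mul_one] at h1
    exact h1
  · intro k _ hk
    have h2 : (k : ℕ) < n + 1 := by
      have := k.2
      have h5 : (k : ℕ) ≠ n + 1 := fun h => hk (Fin.ext h)
      omega
    rw [show rh u (inr k) (inr (Fin.last (n + 1))) = 0 from hu.1 _ _ (by simp only [ordS_inr, Fin.val_last]; omega), mul_zero]
  · simp

/-- The mirrored positions of the last node. -/
theorem polar_D {A B : Fin (n + 2)} (hB : B = Fin.last (n + 1)) (hAB : (B : ℕ) = A + 1) :
    rh u (inl B) (inr A) = -rh u (inl A) (inr B) := by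
  have hne : A ≠ B := by
    rintro rfl
    omega
  have hBv : (B : ℕ) = n + 1 := by rw [hB]; simp
  have hAv : (A : ℕ) = n := by omega
  have h1 := polar_col' u (inr B) (inr A)
  have h0 : (OmegaPlus.e (inr B) : Idx (n + 1) → F) (inr A).swap = 0 := by
    rw [e_apply]
    simp
  rw [h0, Finset.sum_add_distrib] at h1
  have hvan : rh u (inl B) (inr B) = 0 := by
    rw [hB]
    exact van_o hu
  rw [Finset.sum_eq_add_of_mem A B (Finset.mem_univ _) (Finset.mem_univ _) hne,
    Finset.sum_eq_single (a := B)] at h1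
  · have h3 : rh u (inr B) (inr B) = 1 := hu.2 _
    have h4 : rh u (inr A) (inr A) = 1 := hu.2 _
    rw [hvan, h3, h4, zero_mul, mul_one, add_zero, one_mul] at h1
    exact eq_neg_of_add_eq_zero_right h1
  · intro k _ hk
    have h2 : (k : ℕ) < n + 1 := by
      have := k.2
      have h5 : (k : ℕ) ≠ B := fun h => hk (Fin.ext h)
      omega
    rw [show rh u (inr k) (inr B) = 0 from hu.1 _ _ (by simp only [ordS_inr]; omega), zero_mul]
  · simp
  · rintro k _ ⟨hk1, hk2⟩
    have h2 : (k : ℕ) < n := by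
      have := k.2
      have h5 : (k : ℕ) ≠ B := fun h => hk2 (Fin.ext h)
      have h6 : (k : ℕ) ≠ A := fun h => hk1 (Fin.ext h)
      omega
    rw [show rh u (inr k) (inr A) = 0 from hu.1 _ _ (by simp only [ordS_inr]; omega), mul_zero]

/-- The other last coordinate. -/
theorem Q_D {A B : Fin (n + 2)} (hB : B = Fin.last (n + 1)) (hAB : (B : ℕ) = A + 1) :
    rh u (inl A) (inr A) = -(rh u (inl B) (inr A) * rh u (inr B) (inr A)) := by
  have hne : A ≠ B := by
    rintro rfl
    omega
  have hBv : (B : ℕ) = n + 1 := by rw [hB]; simp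
  have hAv : (A : ℕ) = n := by omega
  have h1 := Q_col u (inr A)
  rw [Finset.sum_eq_add_of_mem A B (Finset.mem_univ _) (Finset.mem_univ _) hne] at h1
  · have h4 : rh u (inr A) (inr A) = 1 := hu.2 _
    rw [h4, mul_one] at h1
    exact eq_neg_of_add_eq_zero_left h1
  · rintro k _ ⟨hk1, hk2⟩
    have h2 : (k : ℕ) < n := by
      have := k.2
      have h5 : (k : ℕ) ≠ B := fun h => hk2 (Fin.ext h)
      have h6 : (k : ℕ) ≠ A := fun h => hk1 (Fin.ext h)
      omega
    rw [show rh u (inr k) (inr A) = 0 from hu.1 _ _ (by simp only [ordS_inr]; omega), mul_zero]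

omit hu in
/-- Additivity with a vanishing middle term. -/
theorem add_of_gap {a c b : Idx (n + 1)} (h1 : ordS c = ordS a + 1) (h2 : ordS b = ordS a + 2) {u v : GG n F}
    (hu : IsUT rh ordS u) (hv : IsUT rh ordS v) (hc : rh v c b = 0) :
    rh (u * v) a b = rh u a b + rh v a b := by
  have hne : a ≠ b := by
    rintro rfl
    omega
  rw [map_mul, Matrix.mul_apply, Finset.sum_eq_add_of_mem a b (Finset.mem_univ _) (Finset.mem_univ _) hne,
    hu.2, hv.2, one_mul, mul_one, add_comm]
  intro k _ hk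
  obtain ⟨hk1, hk2⟩ := hk
  have h3 : ordS k ≠ ordS a := fun h => hk1 (ordS_inj h)
  have h4 : ordS k ≠ ordS b := fun h => hk2 (ordS_inj h)
  by_cases h5 : ordS k < ordS a
  · rw [hu.1 _ _ h5, zero_mul]
  · by_cases h6 : ordS k = ordS c
    · have : k = c := ordS_inj h6
      rw [this, hc, mul_zero]
    · rw [hv.1 _ _ (by omega : ordS b < ordS k), mul_zero]

end UT

end Cfsg.Agent.Lib.StGen.OmBase
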