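import Mathlib
import Cfsg.Agent.Lib.StGen.OmBase

/-!
The root data of `Ω⁺`: a homomorphism of `SL₂` attached to a pair of coordinates.
-/

set_option autoImplicit false
set_option linter.unusedSectionVars false
set_option linter.unusedSimpArgs false

namespace Cfsg.Agent.Lib.StGen.OmRoot

open Matrix Cfsg Cfsg.Agent.Lib.PSL2.Basic Sum
open Cfsg.Agent.Lib.StGen.Mono Cfsg.Agent.Lib.StGen.Builder Cfsg.Agent.Lib.StGen.Chain Cfsg.Agent.Lib.StGen.OmBase
open Cfsg.Agent.Lib.StGen.SpPair (Idx ordS ordS_inl ordS_inr ordS_inj ordS_swap ordS_le hi rho_x_apply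
  rho_y_apply rho_w_mon rho_winv_mon rho_diag_mon swap_lt short_inv)
open Cfsg.Agent.Lib.ChevIso Cfsg.Agent.Lib.ChevIso.OmegaPlus Cfsg.Agent.Lib.PresOm.RealOm Cfsg.Agent.Lib.Steinberg.LinearStem
open scoped MatrixGroups

variable {n : ℕ} {F : Type*} [Field F]

theorem lvM_ll (M : Matrix.SpecialLinearGroup (Fin (n + 2)) F) (r c : Fin (n + 2)) :
    lvM M (inl r) (inl c) = M.1 r c := by
  rw [lvM, fromBlocks_apply₁₁]

theorem lvM_rr (M : Matrix.SpecialLinearGroup (Fin (n + 2)) F) (r c : Fin (n + 2)) :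
    lvM M (inr r) (inr c) = (M⁻¹).1 c r := by
  rw [lvM, fromBlocks_apply₂₂, Matrix.transpose_apply]

theorem lvM_lr (M : Matrix.SpecialLinearGroup (Fin (n + 2)) F) (r c : Fin (n + 2)) :
    lvM M (inl r) (inr c) = 0 := by
  rw [lvM, fromBlocks_apply₁₂, Matrix.zero_apply]

theorem lvM_rl (M : Matrix.SpecialLinearGroup (Fin (n + 2)) F) (r c : Fin (n + 2)) :
    lvM M (inr r) (inl c) = 0 := by
  rw [lvM, fromBlocks_apply₂₁, Matrix.zero_apply]

section Psi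

variable {A B : Fin (n + 2)} (hab : A ≠ B)

theorem Psi_x (t : F) (r c : Idx (n + 1)) :
    lvM (rho hab (x t)) r c = if r = c then 1 else if r = inl A ∧ c = inl B then t
      else if r = inr B ∧ c = inr A then -t else 0 := by
  rcases r with r | r <;> rcases c with c | c
  · rw [lvM_ll, rho_x_apply]
    simp
  · rw [lvM_lr]
    simp
  · rw [lvM_rl]
    simp
  · rw [lvM_rr, ← map_inv, x_inv, rho_x_apply]
    simp only [inr.injEq, reduceCtorEq, false_and, if_false, and_comm, eq_comm]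

theorem Psi_y (t : F) (r c : Idx (n + 1)) :
    lvM (rho hab (y t)) r c = if r = c then 1 else if r = inl B ∧ c = inl A then t
      else if r = inr A ∧ c = inr B then -t else 0 := by
  rcases r with r | r <;> rcases c with c | c
  · rw [lvM_ll, rho_y_apply]
    simp
  · rw [lvM_lr]
    simp
  · rw [lvM_rl]
    simp
  · rw [lvM_rr, ← map_inv, y_inv, rho_y_apply]
    simp only [inr.injEq, reduceCtorEq, false_and, if_false, and_comm, eq_comm]

theorem Psi_w (r c : Idx (n + 1)) :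
    lvM (rho hab (w : SL(2, F))) r c ≠ 0 ↔ r = Equiv.sumCongr (Equiv.swap A B) (Equiv.swap A B) c := by
  rcases r with r | r <;> rcases c with c | c
  · rw [lvM_ll, rho_w_mon]
    simp
  · rw [lvM_lr]
    simp
  · rw [lvM_rl]
    simp
  · rw [lvM_rr, ← map_inv, rho_winv_mon]
    simp

theorem Psi_d {z : SL(2, F)} (h01 : z.1 0 1 = 0) (h10 : z.1 1 0 = 0) (r c : Idx (n + 1)) :
    lvM (rho hab z) r c ≠ 0 ↔ r = c := by
  rcases r with r | r <;> rcases c with c | c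
  · rw [lvM_ll, rho_diag_mon hab h01 h10]
    simp
  · rw [lvM_lr]
    simp
  · rw [lvM_rl]
    simp
  · rw [lvM_rr, ← map_inv, rho_diag_mon hab (by simp [h01]) (by simp [h10]), eq_comm]
    simp

end Psi

/-- The compatibility of a permutation with the pairing. -/
def Compat (σ : Equiv.Perm (Idx (n + 1))) : Prop := ∀ k : Idx (n + 1), σ k.swap = (σ k).swap

theorem Compat.one : Compat (1 : Equiv.Perm (Idx (n + 1))) := fun _ => rfl

/-- The map to `GL`. -/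
noncomputable def φ₀ {A B : Fin (n + 2)} (hab : A ≠ B) (σ : Equiv.Perm (Idx (n + 1))) : SL(2, F) →* GL (Idx (n + 1)) F :=
  (MulAut.conj (Fl σ)).toMonoidHom.comp (lv.comp (rho hab))

theorem φ₀_eq {A B : Fin (n + 2)} (hab : A ≠ B) (σ : Equiv.Perm (Idx (n + 1))) (z : SL(2, F)) :
    φ₀ hab σ z = Fl σ * lv (rho hab z) * (Fl σ)⁻¹ := rfl

theorem fM_mul_apply (σ : Equiv.Perm (Idx (n + 1))) (M : Matrix (Idx (n + 1)) (Idx (n + 1)) F) (r c : Idx (n + 1)) :
    ((fM σ : Matrix (Idx (n + 1)) (Idx (n + 1)) F) * M) r c = M (σ⁻¹ r) c := by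
  rw [Matrix.mul_apply, Finset.sum_eq_single (σ⁻¹ r)]
  · simp [fM]
  · intro k _ hk
    have : r ≠ σ k := fun h => hk (by rw [h]; simp)
    simp [fM, this]
  · simp

theorem mul_fM_apply (σ : Equiv.Perm (Idx (n + 1))) (M : Matrix (Idx (n + 1)) (Idx (n + 1)) F) (r c : Idx (n + 1)) :
    (M * (fM σ : Matrix (Idx (n + 1)) (Idx (n + 1)) F)) r c = M r (σ c) := by
  rw [Matrix.mul_apply, Finset.sum_eq_single (σ c)]
  · simp [fM]
  · intro k _ hk
    simp [fM, hk]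
  · simp

theorem φ₀_apply {A B : Fin (n + 2)} (hab : A ≠ B) (σ : Equiv.Perm (Idx (n + 1))) (z : SL(2, F)) (r c : Idx (n + 1)) :
    ((φ₀ hab σ z : GL (Idx (n + 1)) F) : Matrix (Idx (n + 1)) (Idx (n + 1)) F) r c =
      lvM (rho hab z) (σ⁻¹ r) (σ⁻¹ c) := by
  rw [φ₀_eq, ← map_inv, Units.val_mul, Units.val_mul, Fl_coe, Fl_coe, lv_coe, mul_fM_apply, fM_mul_apply]

theorem φ₀_mem {A B : Fin (n + 2)} (hab : A ≠ B) {σ : Equiv.Perm (Idx (n + 1))} (hσ : Compat σ) (z : SL(2, F)) :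
    φ₀ hab σ z ∈ Om' (n + 2) F :=
  (isMono_Fl hσ).conj_mem (lv_mem _)

/-- Elements of the group generated by the Eichler transformations lie in `Ω`. -/
def Lifts (n : ℕ) (F : Type*) [Field F] : Prop := ∀ g ∈ Om' (n + 2) F, ∃ g' : GG n F, g'.1.1 = g

/-- The map to `Ω`. -/
noncomputable def φ (hΩ : Lifts n F) {A B : Fin (n + 2)} (hab : A ≠ B) {σ : Equiv.Perm (Idx (n + 1))} (hσ : Compat σ) :
    SL(2, F) →* GG n F :=
  ((φ₀ hab σ).codRestrict (OO n F) (fun z => Om'_le_O (φ₀_mem hab hσ z))).codRestrict _ (fun z => by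
    obtain ⟨g', hg'⟩ := hΩ _ (φ₀_mem hab hσ z)
    have h1 : ((φ₀ hab σ).codRestrict (OO n F) (fun z => Om'_le_O (φ₀_mem hab hσ z))) z = g'.1 :=
      Subtype.ext hg'.symm
    rw [h1]
    exact g'.2)

variable (hΩ : Lifts n F) {A B : Fin (n + 2)} (hab : A ≠ B) {σ : Equiv.Perm (Idx (n + 1))} (hσ : Compat σ)

theorem rh_φ (z : SL(2, F)) (r c : Idx (n + 1)) :
    rh (φ hΩ hab hσ z) r c = lvM (rho hab z) (σ⁻¹ r) (σ⁻¹ c) := φ₀_apply hab σ z r c

/-- The permutation of a root. -/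
def π₀ (A B : Fin (n + 2)) (σ : Equiv.Perm (Idx (n + 1))) : Equiv.Perm (Idx (n + 1)) :=
  σ * (Equiv.sumCongr (Equiv.swap A B) (Equiv.swap A B)) * σ⁻¹

theorem π₀_apply (x : Idx (n + 1)) : π₀ A B σ (σ x) = σ (Equiv.sumCongr (Equiv.swap A B) (Equiv.swap A B) x) := by
  simp [π₀]

theorem π₀_a : π₀ A B σ (σ (inl A)) = σ (inl B) := by
  rw [π₀_apply]
  simp

theorem π₀_b : π₀ A B σ (σ (inl B)) = σ (inl A) := by
  rw [π₀_apply]
  simp

theorem φ_w_mon : IsMon rh (φ hΩ hab hσ w) (π₀ A B σ) := by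
  intro r c
  rw [rh_φ, Psi_w]
  simp only [π₀, Equiv.Perm.mul_apply]
  constructor
  · intro h
    rw [← h]
    simp
  · intro h
    rw [h]
    simp

theorem φ_d_mon (t : F) (ht : t ≠ 0) : IsMon rh (φ hΩ hab hσ (d t ht)) 1 := by
  intro r c
  rw [rh_φ, Psi_d hab (by simp) (by simp)]
  simp

include hσ in
theorem swap_eq (C : Fin (n + 2)) : σ (inr C) = (σ (inl C)).swap := hσ (inl C)

section RootSx

/-- The support of a root element. -/
def Sx₀ (A B : Fin (n + 2)) (σ : Equiv.Perm (Idx (n + 1))) (r c : Idx (n + 1)) : Prop :=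
  (r = σ (inl A) ∧ c = σ (inl B)) ∨ (r = σ (inr B) ∧ c = σ (inr A))

include hab in
theorem x_supp₀ (t : F) (r c : Idx (n + 1)) (hrc : r ≠ c) (h : rh (φ hΩ hab hσ (x t)) r c ≠ 0) : Sx₀ A B σ r c := by
  rw [rh_φ, Psi_x, if_neg (fun h1 => hrc (σ⁻¹.injective h1))] at h
  by_cases h1 : σ⁻¹ r = inl A ∧ σ⁻¹ c = inl B
  · left
    rw [← h1.1, ← h1.2]
    simp
  · rw [if_neg h1] at h
    by_cases h2 : σ⁻¹ r = inr B ∧ σ⁻¹ c = inr A
    · right
      rw [← h2.1, ← h2.2]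
      simp
    · rw [if_neg h2] at h
      exact absurd rfl h

include hab in
theorem y_supp₀ (t : F) (r c : Idx (n + 1)) (hrc : r ≠ c) (h : rh (φ hΩ hab hσ (y t)) r c ≠ 0) : Sx₀ A B σ c r := by
  rw [rh_φ, Psi_y, if_neg (fun h1 => hrc (σ⁻¹.injective h1))] at h
  by_cases h1 : σ⁻¹ r = inl B ∧ σ⁻¹ c = inl A
  · left
    rw [← h1.1, ← h1.2]
    simp
  · rw [if_neg h1] at h
    by_cases h2 : σ⁻¹ r = inr A ∧ σ⁻¹ c = inr B
    · right
      rw [← h2.1, ← h2.2]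
      simp
    · rw [if_neg h2] at h
      exact absurd rfl h

include hσ in
theorem Sx₀_ord (hlt : ordS (σ (inl A)) < ordS (σ (inl B))) (r c : Idx (n + 1)) (h : Sx₀ A B σ r c) : ordS r < ordS c := by
  rcases h with ⟨rfl, rfl⟩ | ⟨rfl, rfl⟩
  · exact hlt
  · rw [swap_eq hσ B, swap_eq hσ A, ordS_swap, ordS_swap]
    have h1 := ordS_le (σ (inl A))
    have h2 := ordS_le (σ (inl B))
    omega

theorem H_norm₀ (h : GG n F) (hh : IsMon rh h 1) (t : F) :
    ∃ t', h * φ hΩ hab hσ (x t) * h⁻¹ = φ hΩ hab hσ (x t') := by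
  refine ⟨rh h (σ (inl A)) (σ (inl A)) * t * (rh h (σ (inl B)) (σ (inl B)))⁻¹, ?_⟩
  apply rh_inj
  ext r c
  rw [diag_conj hh, rh_φ, rh_φ, Psi_x, Psi_x]
  have hA := (hh (σ (inl A)) (σ (inl A))).2 rfl
  have hB := (hh (σ (inl B)) (σ (inl B))).2 rfl
  by_cases h1 : σ⁻¹ r = σ⁻¹ c
  · have h2 : r = c := σ⁻¹.injective h1
    subst h2
    simp only [if_true, mul_one]
    exact mul_inv_cancel₀ ((hh r r).2 rfl)
  · rw [if_neg h1, if_neg h1]
    by_cases h2 : σ⁻¹ r = inl A ∧ σ⁻¹ c = inl B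
    · rw [if_pos h2, if_pos h2]
      have e1 : r = σ (inl A) := by rw [← h2.1]; simp
      have e2 : c = σ (inl B) := by rw [← h2.2]; simp
      rw [e1, e2]
    · rw [if_neg h2, if_neg h2]
      by_cases h3 : σ⁻¹ r = inr B ∧ σ⁻¹ c = inr A
      · rw [if_pos h3, if_pos h3]
        have e1 : r = (σ (inl B)).swap := by
          rw [← hσ (inl B)]
          show r = σ (inr B)
          rw [← h3.1]
          simp
        have e2 : c = (σ (inl A)).swap := by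
          rw [← hσ (inl A)]
          show c = σ (inr A)
          rw [← h3.2]
          simp
        rw [e1, e2, diag_inv hh, diag_inv hh]
        field_simp
      · rw [if_neg h3, if_neg h3]
        simp

include hab hσ in
theorem dich₀ (m₀ : GG n F) (π' : Equiv.Perm (Idx (n + 1))) (hn : IsMon rh m₀ π') :
    (∀ r c, Sx₀ A B σ r c → ordS (π'⁻¹ r) < ordS (π'⁻¹ c)) ∨
    (∀ r c, Sx₀ A B σ r c → ordS (π'⁻¹ c) < ordS (π'⁻¹ r)) := by
  have hs := mon_swap hn.inv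
  have e1 : π'⁻¹ (σ (inr B)) = (π'⁻¹ (σ (inl B))).swap := by
    rw [swap_eq hσ B, hs]
  have e2 : π'⁻¹ (σ (inr A)) = (π'⁻¹ (σ (inl A))).swap := by
    rw [swap_eq hσ A, hs]
  have h3 := ordS_le (π'⁻¹ (σ (inl B)))
  have h4 := ordS_le (π'⁻¹ (σ (inl A)))
  have h5 : ordS (π'⁻¹ (σ (inl A))) ≠ ordS (π'⁻¹ (σ (inl B))) := fun h => by
    have h6 := σ.injective (π'⁻¹.injective (ordS_inj h))
    exact hab (Sum.inl_injective h6)
  rcases lt_or_gt_of_ne h5 with h6 | h6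
  · left
    rintro r c (⟨rfl, rfl⟩ | ⟨rfl, rfl⟩)
    · exact h6
    · rw [e1, e2, ordS_swap, ordS_swap]
      omega
  · right
    rintro r c (⟨rfl, rfl⟩ | ⟨rfl, rfl⟩)
    · exact h6
    · rw [e1, e2, ordS_swap, ordS_swap]
      omega

end RootSx

variable [Fintype F]

instance : Finite (GG n F) := Subtype.finite

/-- The root data attached to a pair of coordinates. -/
noncomputable def data (hlt : ordS (σ (inl A)) < ordS (σ (inl B)))
    (hadd : ∀ u v : GG n F, IsUT rh ordS u → IsUT rh ordS v → rh (u * v) (σ (inl A)) (σ (inl B)) =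
      rh u (σ (inl A)) (σ (inl B)) + rh v (σ (inl A)) (σ (inl B)))
    (hvan : ∀ u : GG n F, IsUT rh ordS u → rh u (σ (inl A)) (σ (inl B)) = 0 → ∀ r c, ordS r < ordS c →
      ordS (π₀ A B σ c) < ordS (π₀ A B σ r) → rh u r c = 0) :
    RootData (rh (n := n) (F := F)) (ord := ordS) where
  φ := φ hΩ hab hσ
  π := π₀ A B σ
  a := σ (inl A)
  b := σ (inl B)
  hab := hlt
  a' := σ (inl A)
  b' := σ (inl B)
  hab' := hlt
  Sx := Sx₀ A B σ
  Sx_ab := Or.inl ⟨rfl, rfl⟩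
  Sx_ord := Sx₀_ord hσ hlt
  mon_w := φ_w_mon hΩ hab hσ
  π_a := π₀_a
  π_b := π₀_b
  inv_ab := by
    have e1 : (π₀ A B σ)⁻¹ (σ (inl B)) = σ (inl A) := by
      rw [Equiv.Perm.inv_eq_iff_eq, π₀_a]
    have e2 : (π₀ A B σ)⁻¹ (σ (inl A)) = σ (inl B) := by
      rw [Equiv.Perm.inv_eq_iff_eq, π₀_b]
    rw [e1, e2]
    exact hlt
  d_mem := φ_d_mon hΩ hab hσ
  x_diag := by
    intro t r
    rw [rh_φ, Psi_x, if_pos rfl]
  y_diag := by
    intro t r
    rw [rh_φ, Psi_y, if_pos rfl]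
  x_supp := x_supp₀ hΩ hab hσ
  y_supp := y_supp₀ hΩ hab hσ
  x_ab := by
    intro t
    rw [rh_φ, Psi_x]
    simp [hab]
  y_ba := by
    rw [rh_φ, Psi_y]
    simp [hab.symm]
  add := hadd
  van := hvan
  H_norm := H_norm₀ hΩ hab hσ
  dich := dich₀ hab hσ

end Cfsg.Agent.Lib.StGen.OmRoot
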