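import Mathlib
import Cfsg.Agent.Lib.StGen.OmRoot

/-!
The simple roots of `Ω⁺`.
-/

set_option autoImplicit false
set_option linter.unusedSectionVars false
set_option linter.unusedSimpArgs false

namespace Cfsg.Agent.Lib.StGen.OmNodes

open Matrix Cfsg Cfsg.Agent.Lib.PSL2.Basic Sum
open Cfsg.Agent.Lib.StGen.Mono Cfsg.Agent.Lib.StGen.Builder Cfsg.Agent.Lib.StGen.Chain Cfsg.Agent.Lib.StGen.OmBase
open Cfsg.Agent.Lib.StGen.OmRoot
open Cfsg.Agent.Lib.StGen.SpPair (Idx ordS ordS_inl ordS_inr ordS_inj ordS_swap ordS_le hi rho_x_apply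
  rho_y_apply rho_w_mon rho_winv_mon rho_diag_mon swap_lt short_inv long_inv)
open Cfsg.Agent.Lib.ChevIso Cfsg.Agent.Lib.ChevIso.OmegaPlus Cfsg.Agent.Lib.PresOm.RealOm Cfsg.Agent.Lib.Steinberg.LinearStem
open scoped MatrixGroups

variable {n : ℕ} {F : Type*} [Field F]

/-- The last coordinate. -/
abbrev oo (n : ℕ) : Fin (n + 2) := Fin.last (n + 1)

/-- The previous coordinate. -/
abbrev oo' (n : ℕ) : Fin (n + 2) := (Fin.last n).castSucc

theorem oo_ne : oo' n ≠ oo n := by
  intro h
  have := congrArg Fin.val h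
  simp at this

theorem oo_eq : (Fin.last n).succ = oo n := Fin.succ_last n

theorem oo_val : ((oo n : Fin (n + 2)) : ℕ) = n + 1 := rfl
theorem oo'_val : ((oo' n : Fin (n + 2)) : ℕ) = n := rfl

theorem hD : oo' n ≠ oo n := oo_ne

theorem compat_sg : Compat (sg (oo n) : Equiv.Perm (Idx (n + 1))) := sg_swap _

/-! ### The permutation of the last node -/

/-- The permutation of the last node. -/
abbrev πD (n : ℕ) : Equiv.Perm (Idx (n + 1)) := π₀ (oo' n) (oo n) (sg (oo n))

theorem sg_ll {k : Fin (n + 2)} (h : k ≠ oo n) : (sg (oo n) : Equiv.Perm (Idx (n + 1))) (inl k) = inl k := sg_inl_ne h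
theorem sg_rr {k : Fin (n + 2)} (h : k ≠ oo n) : (sg (oo n) : Equiv.Perm (Idx (n + 1))) (inr k) = inr k := sg_inr_ne h

theorem πD_1 : πD n (inl (oo' n)) = inr (oo n) := by
  have h := π₀_a (A := oo' n) (B := oo n) (σ := (sg (oo n) : Equiv.Perm (Idx (n + 1))))
  rwa [sg_ll oo_ne, sg_inl_same] at h

theorem πD_3 : πD n (inr (oo n)) = inl (oo' n) := by
  have h := π₀_b (A := oo' n) (B := oo n) (σ := (sg (oo n) : Equiv.Perm (Idx (n + 1))))
  rwa [sg_ll oo_ne, sg_inl_same] at h

theorem πD_2 : πD n (inl (oo n)) = inr (oo' n) := by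
  have h := π₀_apply (A := oo' n) (B := oo n) (σ := (sg (oo n) : Equiv.Perm (Idx (n + 1)))) (inr (oo n))
  rw [sg_inr_same] at h
  rw [h]
  simp [sg_rr oo_ne]

theorem πD_4 : πD n (inr (oo' n)) = inl (oo n) := by
  have h := π₀_apply (A := oo' n) (B := oo n) (σ := (sg (oo n) : Equiv.Perm (Idx (n + 1)))) (inr (oo' n))
  rw [sg_rr oo_ne] at h
  rw [h]
  simp [sg_inr_same]

theorem πD_l {k : Fin (n + 2)} (h1 : k ≠ oo' n) (h2 : k ≠ oo n) : πD n (inl k) = inl k := by
  have h := π₀_apply (A := oo' n) (B := oo n) (σ := (sg (oo n) : Equiv.Perm (Idx (n + 1)))) (inl k)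
  rw [sg_ll h2] at h
  rw [h]
  simp [Equiv.swap_apply_of_ne_of_ne h1 h2, sg_ll h2]

theorem πD_r {k : Fin (n + 2)} (h1 : k ≠ oo' n) (h2 : k ≠ oo n) : πD n (inr k) = inr k := by
  have h := π₀_apply (A := oo' n) (B := oo n) (σ := (sg (oo n) : Equiv.Perm (Idx (n + 1)))) (inr k)
  rw [sg_rr h2] at h
  rw [h]
  simp [Equiv.swap_apply_of_ne_of_ne h1 h2, sg_rr h2]

theorem ord_D (x : Idx (n + 1)) :
    (ordS x = n ∧ ordS (πD n x) = n + 2) ∨ (ordS x = n + 1 ∧ ordS (πD n x) = n + 3) ∨
    (ordS x = n + 2 ∧ ordS (πD n x) = n) ∨ (ordS x = n + 3 ∧ ordS (πD n x) = n + 1) ∨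
    (ordS (πD n x) = ordS x ∧ ordS x ≠ n ∧ ordS x ≠ n + 1 ∧ ordS x ≠ n + 2 ∧ ordS x ≠ n + 3) := by
  have a1 : ordS (inl (oo' n) : Idx (n + 1)) = n := rfl
  have a2 : ordS (inl (oo n) : Idx (n + 1)) = n + 1 := rfl
  have a3 : ordS (inr (oo n) : Idx (n + 1)) = n + 2 := by
    simp only [ordS_inr, oo_val]
    omega
  have a4 : ordS (inr (oo' n) : Idx (n + 1)) = n + 3 := by
    simp only [ordS_inr, oo'_val]
    omega
  rcases x with k | k
  · by_cases h1 : k = oo' n
    · subst h1
      rw [πD_1]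
      omega
    · by_cases h2 : k = oo n
      · subst h2
        rw [πD_2]
        omega
      · rw [πD_l h1 h2]
        have h3 : (k : ℕ) < n := by
          have := k.2
          have h4 : (k : ℕ) ≠ n := fun h => h1 (Fin.ext h)
          have h5 : (k : ℕ) ≠ n + 1 := fun h => h2 (Fin.ext h)
          omega
        have a5 : ordS (inl k : Idx (n + 1)) = k := rfl
        omega
  · by_cases h1 : k = oo' n
    · subst h1
      rw [πD_4]
      omega
    · by_cases h2 : k = oo n
      · subst h2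
        rw [πD_3]
        omega
      · rw [πD_r h1 h2]
        have h3 : (k : ℕ) < n := by
          have := k.2
          have h4 : (k : ℕ) ≠ n := fun h => h1 (Fin.ext h)
          have h5 : (k : ℕ) ≠ n + 1 := fun h => h2 (Fin.ext h)
          omega
        have a5 : ordS (inr k : Idx (n + 1)) = 2 * (n + 1) + 1 - k := rfl
        omega

theorem pos_1 {x : Idx (n + 1)} (h : ordS x = n) : x = inl (oo' n) := ordS_inj (by rw [h]; rfl)
theorem pos_2 {x : Idx (n + 1)} (h : ordS x = n + 1) : x = inl (oo n) := ordS_inj (by rw [h]; rfl)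
theorem pos_3 {x : Idx (n + 1)} (h : ordS x = n + 2) : x = inr (oo n) :=
  ordS_inj (by rw [h]; simp only [ordS_inr, oo_val]; omega)
theorem pos_4 {x : Idx (n + 1)} (h : ordS x = n + 3) : x = inr (oo' n) :=
  ordS_inj (by rw [h]; simp only [ordS_inr, oo'_val]; omega)

/-- The inversions of the last node. -/
theorem D_inv {r c : Idx (n + 1)} (h1 : ordS r < ordS c) (h2 : ordS (πD n c) < ordS (πD n r)) :
    (ordS r = n ∨ ordS r = n + 1) ∧ (ordS c = n + 2 ∨ ordS c = n + 3) := by
  rcases ord_D r with h3 | h3 | h3 | h3 | h3 <;> rcases ord_D c with h4 | h4 | h4 | h4 | h4 <;> omega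

/-- All inversions of the last node are zero. -/
theorem D_van {u : GG n F} (hu : IsUT rh ordS u) (h0 : rh u (inl (oo' n)) (inr (oo n)) = 0) {r c : Idx (n + 1)}
    (h1 : ordS r < ordS c) (h2 : ordS (πD n c) < ordS (πD n r)) : rh u r c = 0 := by
  have hv := van_o hu
  have hp := polar_D hu (A := oo' n) (B := oo n) rfl rfl
  have hq := Q_D hu (A := oo' n) (B := oo n) rfl rfl
  rw [h0, neg_zero] at hp
  rw [hp, zero_mul, neg_zero] at hq
  obtain ⟨h3 | h3, h4 | h4⟩ := D_inv h1 h2
  · rw [pos_1 h3, pos_3 h4, h0]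
  · rw [pos_1 h3, pos_4 h4, hq]
  · rw [pos_2 h3, pos_3 h4]
    exact hv
  · rw [pos_2 h3, pos_4 h4, hp]

variable [Fintype F] (hΩ : Lifts n F)

/-- The data of a short root. -/
noncomputable def shortData (i : Fin (n + 1)) : RootData (rh (n := n) (F := F)) (ord := ordS) :=
  data hΩ (hi i) Compat.one (by simp)
    (fun u v hu hv => add_of_adj ordS_inj (a := inl i.castSucc) (b := inl i.succ) (by simp) hu hv)
    (fun u hu h0 r c h1 h2 => by
      rcases short_inv i h1 h2 with ⟨rfl, rfl⟩ | ⟨rfl, rfl⟩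
      · exact h0
      · have h3 := form_UT hu (A := i.castSucc) (B := i.succ) (by simp)
        have h4 : rh u (inl i.castSucc) (inl i.succ) = 0 := h0
        rw [h4, neg_zero] at h3
        exact h3)

/-- The data of the last root. -/
noncomputable def lastData : RootData (rh (n := n) (F := F)) (ord := ordS) :=
  data hΩ (hD (n := n)) compat_sg
    (by
      rw [sg_ll oo_ne, sg_inl_same]
      simp only [ordS_inl, ordS_inr, oo_val, oo'_val]
      omega)
    (fun u v hu hv => by
      rw [sg_ll oo_ne, sg_inl_same]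
      refine add_of_gap (c := inl (oo n)) rfl ?_ hu hv (van_o hv)
      simp only [ordS_inl, ordS_inr, oo_val, oo'_val]
      omega)
    (fun u hu h0 r c h1 h2 => by
      rw [sg_ll oo_ne, sg_inl_same] at h0
      exact D_van hu h0 h1 h2)

/-- All root data. -/
noncomputable def allData : Option (Fin (n + 1)) → RootData (rh (n := n) (F := F)) (ord := ordS)
  | none => lastData hΩ
  | some i => shortData hΩ i

theorem allData_inj : Function.Injective fun j => (allData hΩ j).π := by
  have key : ∀ (i : Fin (n + 1)) (x : Fin (n + 2)), (shortData hΩ i).π (inl x) = inl (Equiv.swap i.castSucc i.succ x) :=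
    fun i x => rfl
  have h3 : (allData hΩ none).π = πD n := rfl
  have h4 : ∀ i, (allData hΩ (some i)).π = (shortData hΩ i).π := fun i => rfl
  rintro (_ | i) (_ | i') h
  · rfl
  · exfalso
    have h1 := congrArg (fun π => π (inl (oo' n))) h
    simp only [h3, h4] at h1
    rw [πD_1, key] at h1
    simp at h1
  · exfalso
    have h1 := congrArg (fun π => π (inl (oo' n))) h
    simp only [h3, h4] at h1
    rw [πD_1, key] at h1
    simp at h1
  · have h1 := congrArg (fun π => π (inl i.castSucc)) h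
    simp only [h4, key, Sum.inl.injEq] at h1
    rw [Equiv.swap_apply_left, Equiv.swap_apply_def] at h1
    congr 1
    split_ifs at h1 with h5 h6
    · exact Fin.ext (by simpa [Fin.ext_iff] using h1)
    · simp only [Fin.ext_iff, Fin.val_castSucc, Fin.val_succ] at h1 h6
      omega
    · simp only [Fin.ext_iff, Fin.val_castSucc, Fin.val_succ] at h1
      omega

/-- The relation on the pairs of positions. -/
def RelP (c r : Idx (n + 1)) : Prop := r ≠ c.swap

theorem allData_rel (j : Option (Fin (n + 1))) (c r : Idx (n + 1)) (h : RelP c r) :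
    RelP ((allData hΩ j).π c) ((allData hΩ j).π r) := by
  intro h1
  apply h
  have h2 := mon_swap (allData hΩ j).mon_w c
  rw [← h2] at h1
  exact (allData hΩ j).π.injective h1

theorem allData_rab (j : Option (Fin (n + 1))) : RelP (allData hΩ j).a' (allData hΩ j).b' := by
  rcases j with _ | i
  · show (sg (oo n) : Equiv.Perm (Idx (n + 1))) (inl (oo n)) ≠ ((sg (oo n) : Equiv.Perm (Idx (n + 1))) (inl (oo' n))).swap
    rw [sg_ll oo_ne, sg_inl_same]
    simp [oo_ne.symm]
  · show (inl i.succ : Idx (n + 1)) ≠ (inl i.castSucc : Idx (n + 1)).swap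
    simp

theorem allData_τ (j : Option (Fin (n + 1))) (c r : Idx (n + 1)) (hR : RelP c r) (h1 : ordS c < ordS r)
    (h2 : ordS ((allData hΩ j).π r) < ordS ((allData hΩ j).π c)) :
    (allData hΩ j).Sx ((allData hΩ j).π r) ((allData hΩ j).π c) := by
  rcases j with _ | i
  · obtain ⟨h3 | h3, h4 | h4⟩ := D_inv h1 h2
    · rw [pos_1 h3, pos_3 h4]
      left
      show πD n (inr (oo n)) = _ ∧ πD n (inl (oo' n)) = _
      rw [πD_1, πD_3, sg_ll oo_ne, sg_inl_same]
      exact ⟨rfl, rfl⟩
    · exfalso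
      apply hR
      rw [pos_1 h3, pos_4 h4]
      rfl
    · exfalso
      apply hR
      rw [pos_2 h3, pos_3 h4]
      rfl
    · rw [pos_2 h3, pos_4 h4]
      right
      show πD n (inr (oo' n)) = _ ∧ πD n (inl (oo n)) = _
      rw [πD_2, πD_4, sg_rr oo_ne, sg_inr_same]
      exact ⟨rfl, rfl⟩
  · rcases short_inv i h1 h2 with ⟨rfl, rfl⟩ | ⟨rfl, rfl⟩
    · left
      constructor <;> simp [allData, shortData, data, π₀]
    · right
      constructor <;> simp [allData, shortData, data, π₀]

/-! ### Chains -/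

theorem Sx_short (i : Fin (n + 1)) : (allData hΩ (some i)).Sx (inl i.castSucc) (inl i.succ) := Or.inl ⟨rfl, rfl⟩
theorem Sx_short' (i : Fin (n + 1)) : (allData hΩ (some i)).Sx (inr i.succ) (inr i.castSucc) := Or.inr ⟨rfl, rfl⟩

theorem Sx_last : (allData hΩ none).Sx (inl (oo' n)) (inr (oo n)) := by
  left
  rw [sg_ll oo_ne, sg_inl_same]
  exact ⟨rfl, rfl⟩

theorem Sx_last' : (allData hΩ none).Sx (inl (oo n)) (inr (oo' n)) := by
  right
  rw [sg_rr oo_ne, sg_inr_same]
  exact ⟨rfl, rfl⟩

/-- The order generated by the simple roots. -/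
theorem chainD {R : Idx (n + 1) → Idx (n + 1) → Prop} (hR : ∀ a b c, R a b → R b c → R a c)
    (hS : ∀ j r c, (allData hΩ j).Sx r c → R r c) (r c : Idx (n + 1)) (h : ordS r < ordS c)
    (hne : ¬ (r = inl (oo n) ∧ c = inr (oo n))) : R r c := by
  have hll : ∀ d (k l : Fin (n + 2)), (l : ℕ) = k + d + 1 → R (inl k) (inl l) := by
    intro d
    induction d with
    | zero =>
      intro k l hl
      have hl2 := l.2
      have h1 := hS _ _ _ (Sx_short hΩ ⟨k, by omega⟩)
      have e1 : (⟨k, by omega⟩ : Fin (n + 1)).castSucc = k := rfl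
      have e2 : (⟨k, by omega⟩ : Fin (n + 1)).succ = l := Fin.ext (by simp; omega)
      rwa [e1, e2] at h1
    | succ d ih =>
      intro k l hl
      have hl2 := l.2
      exact hR _ _ _ (ih k ⟨k + d + 1, by omega⟩ rfl) (by
        have h1 := hS _ _ _ (Sx_short hΩ ⟨k + d + 1, by omega⟩)
        have e1 : (⟨k + d + 1, by omega⟩ : Fin (n + 1)).castSucc = ⟨k + d + 1, by omega⟩ := rfl
        have e2 : (⟨k + d + 1, by omega⟩ : Fin (n + 1)).succ = l := Fin.ext (by simp; omega)
        rwa [e1, e2] at h1)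
  have hrr : ∀ d (k l : Fin (n + 2)), (k : ℕ) = l + d + 1 → R (inr k) (inr l) := by
    intro d
    induction d with
    | zero =>
      intro k l hl
      have hl2 := k.2
      have h1 := hS _ _ _ (Sx_short' hΩ ⟨l, by omega⟩)
      have e1 : (⟨l, by omega⟩ : Fin (n + 1)).castSucc = l := rfl
      have e2 : (⟨l, by omega⟩ : Fin (n + 1)).succ = k := Fin.ext (by simp; omega)
      rwa [e1, e2] at h1
    | succ d ih =>
      intro k l hl
      have hl2 := k.2
      refine hR _ _ _ ?_ (ih ⟨l + d + 1, by omega⟩ l rfl)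
      have h1 := hS _ _ _ (Sx_short' hΩ ⟨l + d + 1, by omega⟩)
      have e1 : (⟨l + d + 1, by omega⟩ : Fin (n + 1)).castSucc = ⟨l + d + 1, by omega⟩ := rfl
      have e2 : (⟨l + d + 1, by omega⟩ : Fin (n + 1)).succ = k := Fin.ext (by simp; omega)
      rwa [e1, e2] at h1
  have hl' : ∀ k l : Fin (n + 2), k < l → R (inl k) (inl l) := fun k l h =>
    hll (l - k - 1) k l (by have : (k : ℕ) < l := h; omega)
  have hr' : ∀ k l : Fin (n + 2), l < k → R (inr k) (inr l) := fun k l h =>
    hrr (k - l - 1) k l (by have : (l : ℕ) < k := h; omega)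
  have h1 := hS _ _ _ (Sx_last hΩ)
  have h2 := hS _ _ _ (Sx_last' hΩ)
  rcases r with k | k <;> rcases c with l | l
  · exact hl' k l h
  · by_cases hk : k = oo n
    · subst hk
      have hl : l ≠ oo n := fun h3 => hne ⟨rfl, by rw [h3]⟩
      by_cases hl2 : l = oo' n
      · subst hl2
        exact h2
      · refine hR _ _ _ h2 (hr' _ _ ?_)
        have h3 := l.2
        have h4 : (l : ℕ) ≠ n := fun h => hl2 (Fin.ext h)
        have h5 : (l : ℕ) ≠ n + 1 := fun h => hl (Fin.ext h)
        show (l : ℕ) < n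
        omega
    · have hk' : k = oo' n ∨ k < oo' n := by
        have h3 := k.2
        have h5 : (k : ℕ) ≠ n + 1 := fun h => hk (Fin.ext h)
        by_cases h4 : (k : ℕ) = n
        · exact Or.inl (Fin.ext h4)
        · right
          show (k : ℕ) < n
          omega
      have a1 : R (inl k) (inr (oo n)) := by
        rcases hk' with rfl | h3
        · exact h1
        · exact hR _ _ _ (hl' _ _ h3) h1
      by_cases hl : l = oo n
      · rw [hl]
        exact a1
      · refine hR _ _ _ a1 (hr' _ _ ?_)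
        have h3 := l.2
        have h5 : (l : ℕ) ≠ n + 1 := fun h => hl (Fin.ext h)
        show (l : ℕ) < n + 1
        omega
  · exfalso
    simp only [ordS_inl, ordS_inr] at h
    have := k.2
    have := l.2
    omega
  · exact hr' k l (by
      simp only [ordS_inr] at h
      have := k.2
      have := l.2
      show (l : ℕ) < k
      omega)

end Cfsg.Agent.Lib.StGen.OmNodes
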