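import Mathlib
import Cfsg.Agent.Lib.StGen.OmNodes
import Cfsg.Agent.Lib.ChevIso.OmegaOdd
import Cfsg.Agent.Lib.StBlocks.SLPair

/-!
The Steinberg character of `PΩ⁺`.
-/

set_option autoImplicit false
set_option linter.unusedSectionVars false
set_option linter.unusedSimpArgs false

namespace Cfsg.Agent.Lib.StGen.OmMain

open Matrix Cfsg Cfsg.Agent.Lib.PSL2.Basic Sum Module
open Cfsg.Agent.Lib.StGen.Mono Cfsg.Agent.Lib.StGen.Builder Cfsg.Agent.Lib.StGen.Chain Cfsg.Agent.Lib.StGen.OmBase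
open Cfsg.Agent.Lib.StGen.OmRoot Cfsg.Agent.Lib.StGen.OmNodes
open Cfsg.Agent.Lib.StGen.SpPair (Idx ordS ordS_inl ordS_inr ordS_inj ordS_swap ordS_le hi rho_x_apply
  rho_y_apply rho_w_mon rho_winv_mon rho_diag_mon swap_lt short_inv long_inv)
open Cfsg.Agent.Lib.ChevIso Cfsg.Agent.Lib.ChevIso.OmegaPlus Cfsg.Agent.Lib.PresOm.RealOm Cfsg.Agent.Lib.Steinberg.LinearStem
open scoped MatrixGroups commutatorElement

variable {n : ℕ} {F : Type*} [Field F] [Fintype F]

/-! ### The flip is not in `Ω` -/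

section Flip

variable {g : GG n F} (hg : IsMon rh g (sg (oo n)))

theorem flip_apply (x : Idx (n + 1)) : (sg (oo n) : Equiv.Perm (Idx (n + 1)))⁻¹ x = sg (oo n) x := by
  rw [sg_inv]

/-- The map used to compute the intersection. -/
def ff (n : ℕ) : Fin (n + 2) ⊕ Unit → Idx (n + 1) := Sum.elim (fun k => inr k) (fun _ => inl (oo n))

theorem ff_inj : Function.Injective (ff n) := by
  rintro (a | a) (b | b) h
  · simpa [ff] using h
  · simp [ff] at h
  · simp [ff] at h
  · rfl

include hg in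
theorem inter_eq : LinearMap.ker (LinearMap.funLeft F F (Sum.inr : Fin (n + 2) → Idx (n + 1))) ⊓
      (LinearMap.ker (LinearMap.funLeft F F (Sum.inr : Fin (n + 2) → Idx (n + 1)))).map
        (Matrix.mulVecLin ((g.1.1 : GL (Idx (n + 1)) F) : Matrix (Idx (n + 1)) (Idx (n + 1)) F)) =
    LinearMap.ker (LinearMap.funLeft F F (ff n)) := by
  have hU : ∀ x : Idx (n + 1) → F, x ∈ LinearMap.ker (LinearMap.funLeft F F (Sum.inr : Fin (n + 2) → Idx (n + 1))) ↔
      ∀ k, x (inr k) = 0 := by
    intro x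
    rw [LinearMap.mem_ker]
    constructor
    · intro h k
      exact congrFun h k
    · intro h
      funext k
      exact h k
  ext x
  rw [Submodule.mem_inf, Submodule.mem_map, hU, LinearMap.mem_ker]
  have hff : LinearMap.funLeft F F (ff n) x = 0 ↔ (∀ k, x (inr k) = 0) ∧ x (inl (oo n)) = 0 := by
    constructor
    · intro h
      exact ⟨fun k => congrFun h (Sum.inl k), congrFun h (Sum.inr ())⟩
    · rintro ⟨h1, h2⟩
      funext k
      rcases k with k | k
      · exact h1 k
      · exact h2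
  rw [hff]
  have hm : ∀ w : Idx (n + 1) → F, ∀ r, (rh g *ᵥ w) r = rh g r (sg (oo n) r) * w (sg (oo n) r) := by
    intro w r
    rw [Matrix.mulVec, dotProduct, Finset.sum_eq_single (sg (oo n) r)]
    · intro k _ hk
      have : rh g r k = 0 := by
        by_contra h1
        apply hk
        rw [(hg r k).1 h1, ← Equiv.Perm.mul_apply, sg_mul_self]
        rfl
      rw [this, zero_mul]
    · simp
  constructor
  · rintro ⟨h1, w, hw, rfl⟩
    refine ⟨h1, ?_⟩
    have h2 := hm w (inl (oo n))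
    rw [hU] at hw
    rw [sg_inl_same, hw, mul_zero] at h2
    exact h2
  · rintro ⟨h1, h2⟩
    refine ⟨h1, rh g⁻¹ *ᵥ x, ?_, ?_⟩
    · rw [hU]
      intro k
      have hinv : IsMon rh g⁻¹ (sg (oo n)) := by
        have := hg.inv
        rwa [sg_inv] at this
      have h3 : (rh g⁻¹ *ᵥ x) (inr k) = rh g⁻¹ (inr k) (sg (oo n) (inr k)) * x (sg (oo n) (inr k)) := by
        rw [Matrix.mulVec, dotProduct, Finset.sum_eq_single (sg (oo n) (inr k))]
        · intro j _ hj
          have : rh g⁻¹ (inr k) j = 0 := by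
            by_contra h4
            apply hj
            rw [(hinv _ _).1 h4, ← Equiv.Perm.mul_apply, sg_mul_self]
            rfl
          rw [this, zero_mul]
        · simp
      rw [h3]
      by_cases hk : k = oo n
      · subst hk
        rw [sg_inr_same, h2, mul_zero]
      · rw [sg_rr hk, h1, mul_zero]
    · show (rh g) *ᵥ (rh g⁻¹ *ᵥ x) = x
      rw [Matrix.mulVec_mulVec, ← map_mul, mul_inv_cancel, map_one, Matrix.one_mulVec]

include hg in
theorem finrank_inter : finrank F ↥(LinearMap.ker (LinearMap.funLeft F F (Sum.inr : Fin (n + 2) → Idx (n + 1))) ⊓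
      (LinearMap.ker (LinearMap.funLeft F F (Sum.inr : Fin (n + 2) → Idx (n + 1)))).map
        (Matrix.mulVecLin ((g.1.1 : GL (Idx (n + 1)) F) : Matrix (Idx (n + 1)) (Idx (n + 1)) F))) = n + 1 := by
  rw [inter_eq hg]
  have h1 := LinearMap.finrank_range_add_finrank_ker (LinearMap.funLeft F F (ff n))
  have h2 : LinearMap.range (LinearMap.funLeft F F (ff n)) = ⊤ :=
    LinearMap.range_eq_top.2 (LinearMap.funLeft_surjective_of_injective F F _ ff_inj)
  rw [h2, finrank_top, Module.finrank_fintype_fun_eq_card, Module.finrank_fintype_fun_eq_card] at h1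
  simp only [Fintype.card_sum, Fintype.card_fin, Fintype.card_unit] at h1
  have h3 : finrank F ↥(LinearMap.ker (LinearMap.funLeft F F (ff n))) = n + 1 := by omega
  exact h3

include hg in
/-- The flip is not in `Ω`. -/
theorem no_flip (hne : Fintype.card F ≠ 2 ∨ n + 2 ≠ 2) : False := by
  have h1 := finrank_inter hg
  have hodd : ¬ Even ((n + 2) - (n + 1)) := by
    rw [show (n + 2) - (n + 1) = 1 by omega]
    decide
  by_cases h2 : (2 : F) = 0
  · haveI : CharP F 2 := CharTwo.of_one_ne_zero_of_two_eq_zero one_ne_zero h2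
    have h3 := Cfsg.Agent.Lib.Classical.Orth.Classes.plus_class_iff_omega hne g.1
    rw [h1] at h3
    exact hodd (h3.2 g.2)
  · have h3 := Cfsg.Agent.Lib.Classical.Orth.Classes.plus_class_iff_det h2 g.1
    rw [h1] at h3
    apply hodd
    rw [h3]
    let f : OO n F →* Fˣ := (Matrix.GeneralLinearGroup.det).comp (OO n F).subtype
    have h4 : Cfsg.Omega F (Cfsg.quadFormPlus (n + 2) F) ≤ f.ker := by
      rw [Cfsg.Omega, commutator_def, Subgroup.commutator_le]
      intro a _ b _
      rw [MonoidHom.mem_ker, commutatorElement_def]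
      simp only [map_mul, map_inv]
      rw [mul_comm (f a) (f b)]
      group
    have h5 := h4 g.2
    rw [MonoidHom.mem_ker] at h5
    have h6 := congrArg Units.val h5
    exact h6

end Flip

variable (hΩ : Lifts n F) (hne : Fintype.card F ≠ 2 ∨ n + 2 ≠ 2)

/-! ### The Weyl group -/

include hne in
theorem flip_exists (π : Equiv.Perm (Idx (n + 1))) (hn : ∃ m₀ : GG n F, IsMon rh m₀ π) (hπ : π ≠ 1) :
    ∃ j, ∀ r c, (allData hΩ j).Sx r c → ordS (π c) < ordS (π r) := by
  obtain ⟨m₀, hm⟩ := hn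
  by_contra hcon
  push Not at hcon
  have hkeep : ∀ j r c, (allData hΩ j).Sx r c → ordS (π r) < ordS (π c) := by
    intro j
    obtain ⟨r₀, c₀, h0, h1⟩ := hcon j
    rcases (allData hΩ j).dich m₀⁻¹ π⁻¹ hm.inv with h | h
    · intro r c hS
      simpa using h r c hS
    · exfalso
      have h2 := h r₀ c₀ h0
      simp only [inv_inv] at h2
      omega
  have hchain := chainD hΩ (R := fun r c => ordS (π r) < ordS (π c)) (fun a b c h1 h2 => lt_trans h1 h2) hkeep
  by_cases h1 : ordS (π (inl (oo n))) < ordS (π (inr (oo n)))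
  · apply hπ
    refine eq_one_of_mono ordS_inj fun r c hrc => ?_
    by_cases h2 : r = inl (oo n) ∧ c = inr (oo n)
    · rw [h2.1, h2.2]
      exact h1
    · exact hchain r c hrc h2
  · have h1' : ordS (π (inr (oo n))) < ordS (π (inl (oo n))) := by
      refine lt_of_le_of_ne (not_lt.1 h1) fun h => ?_
      have := π.injective (ordS_inj h)
      simp at this
    have h3 : π * sg (oo n) = 1 := by
      refine eq_one_of_mono ordS_inj fun r c hrc => ?_
      simp only [Equiv.Perm.mul_apply]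
      by_cases h2 : r = inl (oo n) ∧ c = inr (oo n)
      · rw [h2.1, h2.2, sg_inl_same, sg_inr_same]
        exact h1'
      · have h4 : ordS (sg (oo n) r) < ordS (sg (oo n) c) := by
          by_contra h5
          have h6 : ordS (sg (oo n) c) < ordS (sg (oo n) r) := by
            refine lt_of_le_of_ne (not_lt.1 h5) fun h => ?_
            have h7 := (sg (oo n)).injective (ordS_inj h)
            rw [h7] at hrc
            exact lt_irrefl _ hrc
          exact h2 (long_inv hrc h6)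
        refine hchain _ _ h4 ?_
        rintro ⟨h5, h6⟩
        have h7 : r = inr (oo n) := by
          have : sg (oo n) r = sg (oo n) (inr (oo n)) := by rw [h5, sg_inr_same]
          exact (sg (oo n)).injective this
        have h8 : c = inl (oo n) := by
          have : sg (oo n) c = sg (oo n) (inl (oo n)) := by rw [h6, sg_inl_same]
          exact (sg (oo n)).injective this
        rw [h7, h8] at hrc
        simp only [ordS_inl, ordS_inr, oo_val] at hrc
        omega
    have h4 : π = sg (oo n) := by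
      have := eq_inv_of_mul_eq_one_left h3
      rwa [sg_inv] at this
    rw [h4] at hm
    exact no_flip hm hne

/-- The anti-diagonal property. -/
theorem anti (m₀ : GG n F) (π : Equiv.Perm (Idx (n + 1))) (hm : IsMon rh m₀ π)
    (hj : ∀ j r c, (allData hΩ j).Sx r c → ordS (π⁻¹ c) < ordS (π⁻¹ r)) (x' : GG n F)
    (hx : x' ∈ USub rh ordS_inj ⊔ Mono.HSub rh) (hy : m₀⁻¹ * x' * m₀ ∈ USub rh ordS_inj ⊔ Mono.HSub rh) : x' ∈ Mono.HSub rh := by
  refine anti_conj hm hx hy fun r c hrc hne0 => ?_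
  refine chainD hΩ (R := fun r c => ordS (π⁻¹ c) < ordS (π⁻¹ r)) (fun a b c h1 h2 => lt_trans h2 h1) hj r c hrc ?_
  rintro ⟨rfl, rfl⟩
  apply hne0
  obtain ⟨u, hu, h', hh, rfl⟩ := (Cfsg.Agent.Lib.ChevBN.Core.mem_sup_iff_of_norm (fun h hh u hu => H_norm_U ordS_inj hh hu)).1 hx
  rw [map_mul, IsMon.mul_apply hh]
  simp only [Equiv.Perm.one_apply]
  rw [show rh u (inl (oo n)) (inr (oo n)) = 0 from van_o hu, zero_mul]

/-! ### Generation -/

/-- The inclusion into `GL`. -/
def toGL : GG n F →* GL (Idx (n + 1)) F :=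
  (OO n F).subtype.comp (Cfsg.Omega F (Cfsg.quadFormPlus (n + 2) F)).subtype

theorem toGL_inj : Function.Injective (toGL : GG n F →* GL (Idx (n + 1)) F) := fun _ _ h =>
  Subtype.ext (Subtype.ext h)

theorem toGL_mem (g : GG n F) : toGL g ∈ Om' (n + 2) F := by
  have hmO : (⊤ : Subgroup (OO n F)).map (Subgroup.subtype (OO n F)) = OO n F := by
    rw [← MonoidHom.range_eq_map, Subgroup.range_subtype]
  have e1 : (Cfsg.Omega F (Cfsg.quadFormPlus (n + 2) F)).map (Subgroup.subtype (OO n F)) = ⁅OO n F, OO n F⁆ := by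
    rw [Cfsg.Omega, commutator_def, Subgroup.map_commutator, hmO]
  have h1 : (g.1.1 : GL (Idx (n + 1)) F) ∈ (Cfsg.Omega F (Cfsg.quadFormPlus (n + 2) F)).map (Subgroup.subtype (OO n F)) :=
    ⟨g.1, g.2, rfl⟩
  rw [e1] at h1
  have h2 : ⁅OO n F, OO n F⁆ ≤ Om' (n + 2) F := by
    rw [Subgroup.commutator_le]
    intro a ha b hb
    exact commutator_mem_Om' (i₀ := 0) (j := 1) (by simp) ha hb
  exact h2 h1

/-- The subgroup generated by `U`, `H`, `N`. -/
abbrev KK (n : ℕ) (F : Type*) [Field F] [Fintype F] : Subgroup (GG n F) := (USub rh ordS_inj ⊔ Mono.HSub rh) ⊔ NSub rh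

theorem mem_KK_of_UT {g : GG n F} (h : IsUT rh ordS g) : g ∈ KK n F :=
  Subgroup.mem_sup_left (Subgroup.mem_sup_left h)

theorem mem_KK_of_mon {g : GG n F} {π : Equiv.Perm (Idx (n + 1))} (h : IsMon rh g π) : g ∈ KK n F :=
  Subgroup.mem_sup_right ⟨π, h⟩

include hΩ in
/-- Lifting an element. -/
theorem exists_lift (g : GL (Idx (n + 1)) F) (hg : g ∈ Om' (n + 2) F) : ∃ g' : GG n F, toGL g' = g := hΩ g hg

theorem Y_ut {u v : Idx (n + 1)} (h : Valid u v) (huv : ordS u < ordS v) (t : F) {g : GG n F} (hg : toGL g = Y h t) :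
    IsUT rh ordS g := by
  have h1 : rh g = yM u v t := by
    show ((toGL g : GL (Idx (n + 1)) F) : Matrix (Idx (n + 1)) (Idx (n + 1)) F) = _
    rw [hg, Y_coe]
  have hne : u ≠ v := h.ne1.symm
  have hne2 : v.swap ≠ u.swap := fun h2 => hne (swap_inj h2).symm
  have hs : ordS v.swap < ordS u.swap := by
    rw [ordS_swap, ordS_swap]
    have := ordS_le u
    have := ordS_le v
    omega
  rw [IsUT, h1]
  constructor
  · intro r c hc
    simp only [yM, bM, Matrix.add_apply, Matrix.smul_apply, Matrix.sub_apply, Matrix.single_apply, smul_eq_mul]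
    have h2 : r ≠ c := fun h2 => by
      rw [h2] at hc
      exact lt_irrefl _ hc
    have h3 : ¬ (u = r ∧ v = c) := by
      rintro ⟨rfl, rfl⟩
      omega
    have h4 : ¬ (v.swap = r ∧ u.swap = c) := by
      rintro ⟨rfl, rfl⟩
      omega
    simp [Matrix.one_apply, h2, h3, h4]
  · intro r
    simp only [yM, bM, Matrix.add_apply, Matrix.smul_apply, Matrix.sub_apply, Matrix.single_apply, smul_eq_mul]
    have h3 : ¬ (u = r ∧ v = r) := by
      rintro ⟨rfl, h3⟩
      exact hne h3.symm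
    have h4 : ¬ (v.swap = r ∧ u.swap = r) := by
      rintro ⟨rfl, h4⟩
      exact hne2 h4.symm
    simp [h3, h4]

theorem rh_lift {g : GG n F} {g₀ : GL (Idx (n + 1)) F} (h : toGL g = g₀) :
    rh g = ((g₀ : GL (Idx (n + 1)) F) : Matrix (Idx (n + 1)) (Idx (n + 1)) F) := by
  rw [← h]
  rfl

local notation "tv" => Matrix.SpecialLinearGroup.transvection

/-- Monomial elements of the Levi subgroup. -/
theorem lv_isMon {M : Matrix.SpecialLinearGroup (Fin (n + 2)) F} {σ : Equiv.Perm (Fin (n + 2))}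
    (h : Cfsg.Agent.Lib.StBlocks.SLBasic.IsMon M σ) {g : GG n F} (hg : toGL g = lv M) :
    IsMon rh g (Equiv.sumCongr σ σ) := by
  have h1 := rh_lift hg
  rw [lv_coe] at h1
  rintro (r | r) (c | c)
  · rw [h1, lvM_ll, h r c]
    simp
  · rw [h1, lvM_lr]
    simp
  · rw [h1, lvM_rl]
    simp
  · rw [h1, lvM_rr, h.inv c r]
    simp only [Equiv.sumCongr_apply, Sum.map_inr, inr.injEq]
    constructor
    · intro h2
      rw [h2]
      simp
    · intro h2
      rw [h2]
      simp

include hΩ in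
/-- The root elements lie in the group generated by `U`, `H`, `N`. -/
theorem Y_ll_mem {i j : Fin (n + 2)} (hij : i ≠ j) (h : Valid (inl i : Idx (n + 1)) (inl j)) (t : F) :
    ∃ g ∈ KK n F, toGL g = Y h t := by
  have hU : ∀ {i j : Fin (n + 2)} (hij : i ≠ j) (h : Valid (inl i : Idx (n + 1)) (inl j)) (hlt : i < j) (t : F),
      ∃ g ∈ KK n F, toGL g = Y h t := by
    intro i j hij h hlt t
    obtain ⟨g, hg⟩ := exists_lift hΩ _ (Y_mem h t)
    exact ⟨g, mem_KK_of_UT (Y_ut h (by simpa using hlt) t hg), hg⟩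
  rcases lt_or_gt_of_ne hij with h1 | h1
  · exact hU hij h h1 t
  · obtain ⟨a, ha, ha'⟩ := hU hij.symm (valid_ll hij.symm) h1 (-t)
    have hlv : lv (Cfsg.Agent.Lib.StBlocks.SLBasic.ee hij.symm : Matrix.SpecialLinearGroup (Fin (n + 2)) F) ∈ Om' (n + 2) F := lv_mem _
    obtain ⟨e, he⟩ := exists_lift hΩ _ hlv
    have hem := lv_isMon (Cfsg.Agent.Lib.StBlocks.SLPair.isMon_ee (F := F) hij.symm) he
    refine ⟨e * a * e⁻¹, Subgroup.mul_mem _ (Subgroup.mul_mem _ (mem_KK_of_mon hem) ha) (Subgroup.inv_mem _ (mem_KK_of_mon hem)), ?_⟩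
    rw [map_mul, map_mul, map_inv, he, ha']
    have h2 := Cfsg.Agent.Lib.StBlocks.SLPair.tv_conj_ee (F := F) hij.symm (-t)
    rw [neg_neg] at h2
    have h3 := congrArg lv h2
    rw [map_mul, map_mul, map_inv] at h3
    have h4 := lv_y hij.symm (valid_ll hij.symm) (-t)
    have h5 := lv_y hij h t
    rw [X_y hij.symm] at h4
    rw [X_y hij] at h5
    rw [h4] at h3
    rw [h3]
    exact h5

include hΩ in
theorem Y_mem_KK {u v : Idx (n + 1)} (h : Valid u v) (t : F) : ∃ g ∈ KK n F, toGL g = Y h t := by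
  rcases u with i | i <;> rcases v with j | j
  · exact Y_ll_mem hΩ (fun e => h.ne1 (by rw [e])) h t
  · obtain ⟨g, hg⟩ := exists_lift hΩ _ (Y_mem h t)
    have hlt : ordS (inl i : Idx (n + 1)) < ordS (inr j : Idx (n + 1)) := by
      simp only [ordS_inl, ordS_inr]
      have := i.2
      have := j.2
      omega
    exact ⟨g, mem_KK_of_UT (Y_ut h hlt t hg), hg⟩
  · have hij : i ≠ j := fun e => h.ne2 (by rw [e]; rfl)
    have hv : Valid (inl i : Idx (n + 1)) (inr j) := valid_of_ind_ne (u := inl i) (v := inr j) hij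
    obtain ⟨a, hah⟩ := exists_lift hΩ _ (Y_mem hv t)
    have hlt : ordS (inl i : Idx (n + 1)) < ordS (inr j : Idx (n + 1)) := by
      simp only [ordS_inl, ordS_inr]
      have := i.2
      have := j.2
      omega
    have ha := mem_KK_of_UT (Y_ut hv hlt t hah)
    obtain ⟨e, he⟩ := exists_lift hΩ _ (tf_mem hij)
    have hem : IsMon rh e (sg i * sg j) := by
      intro r c
      rw [rh_lift he, tf_eq, Fl_coe]
      show (if r = (sg i * sg j) c then (1 : F) else 0) ≠ 0 ↔ r = (sg i * sg j) c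
      by_cases h2 : r = (sg i * sg j) c
      · rw [if_pos h2]
        exact iff_of_true one_ne_zero h2
      · rw [if_neg h2]
        exact iff_of_false (fun h3 => h3 rfl) h2
    refine ⟨e * a * e⁻¹, Subgroup.mul_mem _ (Subgroup.mul_mem _ (mem_KK_of_mon hem) ha) (Subgroup.inv_mem _ (mem_KK_of_mon hem)), ?_⟩
    rw [map_mul, map_mul, map_inv, he, hah]
    exact cj_tf_Y (pi_l1 hij) (by
      rw [Equiv.Perm.mul_apply, sg_inr_same, sg_inl_ne hij.symm]) hv h t
  · have h1 := Y_bar h t
    rw [h1]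
    exact Y_ll_mem hΩ (fun e => h.ne1 (by rw [e])) _ _

include hΩ in
theorem KK_top : KK n F = ⊤ := by
  have h1 : Om' (n + 2) F ≤ (KK n F).map toGL := by
    rw [Om', Subgroup.closure_le]
    rintro _ ⟨u, v, h, t, rfl⟩
    obtain ⟨g, hg, hg'⟩ := Y_mem_KK hΩ h t
    exact ⟨g, hg, hg'⟩
  rw [eq_top_iff]
  intro g _
  obtain ⟨k, hk, hk'⟩ := h1 (toGL_mem g)
  rwa [← toGL_inj hk']

variable (n F) in
theorem lifts_of_le (h : Om' (n + 2) F ≤ ⁅OO n F, OO n F⁆) : Lifts n F := by
  intro g hg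
  have hmO : (⊤ : Subgroup (OO n F)).map (Subgroup.subtype (OO n F)) = OO n F := by
    rw [← MonoidHom.range_eq_map, Subgroup.range_subtype]
  have e1 : (Cfsg.Omega F (Cfsg.quadFormPlus (n + 2) F)).map (Subgroup.subtype (OO n F)) = ⁅OO n F, OO n F⁆ := by
    rw [Cfsg.Omega, commutator_def, Subgroup.map_commutator, hmO]
  have h2 := h hg
  rw [← e1] at h2
  obtain ⟨x, hx, hx'⟩ := h2
  exact ⟨⟨x, hx⟩, hx'⟩

theorem lifts_large (hn : 1 ≤ n) : Lifts n F := by
  apply lifts_of_le
  intro g hg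
  have h1 := map_Omega_eq (m := n + 2) (F := F) (by omega)
  rw [← h1] at hg
  have hmO : (⊤ : Subgroup (OO n F)).map (Subgroup.subtype (OO n F)) = OO n F := by
    rw [← MonoidHom.range_eq_map, Subgroup.range_subtype]
  have e1 : (Cfsg.Omega F (Cfsg.quadFormPlus (n + 2) F)).map (Subgroup.subtype (OO n F)) = ⁅OO n F, OO n F⁆ := by
    rw [Cfsg.Omega, commutator_def, Subgroup.map_commutator, hmO]
  rw [e1] at hg
  exact hg

theorem lifts_two (hF : ∃ a : F, a ≠ 0 ∧ a ≠ 1) : Lifts 0 F := by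
  apply lifts_of_le
  show Om' 2 F ≤ _
  rw [Om', Subgroup.closure_le]
  rintro _ ⟨u, v, h, t, rfl⟩
  obtain ⟨a, ha, ha1⟩ := hF
  obtain ⟨p, hp, hpu⟩ := OmegaOdd.exists_tor u ha
  have hm := (OmegaOdd.tor_isA (ind u) hp).isMono
  have hv : ind v ≠ ind u := by
    intro h'
    rcases eq_or_eq_swap_of_ind h' with h2 | h2
    · exact h.ne1 h2
    · exact h.ne2 h2
  have hcv : cf (ind u) p v = 1 := cf_o _ _ hv
  have hne : a - 1 ≠ 0 := sub_ne_zero.2 ha1
  have e1 := hm.mul_Y h (t / (a - 1))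
  rw [hpu, hcv, div_one] at e1
  have e2 : ⁅OmegaOdd.tor (ind u) hp, Y h (t / (a - 1))⁆ = Y h t := by
    rw [commutatorElement_def]
    have e3 : OmegaOdd.tor (ind u) hp * Y h (t / (a - 1)) = Y h (a * (t / (a - 1))) * OmegaOdd.tor (ind u) hp := e1
    rw [e3, mul_inv_cancel_right, Y_inv, Y_mul]
    congr 1
    field_simp
    ring
  show Y h t ∈ ⁅OO 0 F, OO 0 F⁆
  rw [← e2]
  exact Subgroup.commutator_mem_commutator (OmegaOdd.tor_mem_O _ _) (Y_mem_O _ _)

include hne in
theorem lifts : Lifts n F := by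
  classical
  by_cases hn : 1 ≤ n
  · exact lifts_large hn
  · have hn0 : n = 0 := by omega
    subst hn0
    apply lifts_two
    have h1 : Fintype.card F ≠ 2 := by
      rcases hne with h | h
      · exact h
      · exact absurd rfl h
    by_contra h2
    push Not at h2
    apply h1
    have h3 : Fintype.card F = (Finset.univ : Finset F).card := rfl
    have h4 : (Finset.univ : Finset F) = {0, 1} := by
      ext a
      simp only [Finset.mem_univ, Finset.mem_insert, Finset.mem_singleton, true_iff]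
      by_cases h5 : a = 0
      · exact Or.inl h5
      · exact Or.inr (h2 a h5)
    rw [h3, h4, Finset.card_pair zero_ne_one]

variable (n F) in
/-- The Steinberg character of `PΩ⁺`. -/
theorem main (hne : Fintype.card F ≠ 2 ∨ n + 2 ≠ 2) (p : ℕ) [Fact p.Prime] [CharP F p] :
    ∃ χ : (GG n F ⧸ Subgroup.center (GG n F)) → ℂ, Cfsg.IsIrrCharacter (GG n F ⧸ Subgroup.center (GG n F)) χ ∧
    ∀ Q : Sylow p (GG n F ⧸ Subgroup.center (GG n F)), χ 1 = Nat.card Q ∧
      ∀ x : GG n F ⧸ Subgroup.center (GG n F), x ∈ Q → x ≠ 1 → χ x = 0 := by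
  have hΩ := lifts hne
  refine Builder.main (hord := ordS_inj) (allData hΩ) (allData_inj hΩ)
    (fun π hn => exists_word (hord := ordS_inj) (allData hΩ) (Rel := RelP) (allData_rel hΩ) (allData_rab hΩ)
      (allData_τ hΩ) (flip_exists hΩ hne) _ π rfl hn) p rh_inj (KK_top hΩ) ?_
  intro m₀ π hm hj x' hx hy
  exact anti hΩ m₀ π hm hj x' hx hy

end Cfsg.Agent.Lib.StGen.OmMain
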